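import Groth.Prelude.Def_W4c5quivmodgenus0Quiv
import Mathlib.Tactic
import Mathlib.LinearAlgebra.Dimension.Finrank
import Mathlib.LinearAlgebra.FiniteDimensional.Basic
import Mathlib.LinearAlgebra.LinearIndependent.Lemmas

/-!
# The Q- and P-quiver stability conditions in a chamber
-/

universe u v

open PtQuiv

namespace Groth.Agent.PtQuiv28

variable {K : Type u} [Field K] {κ : Type v} [Fintype κ] [DecidableEq κ] {a b : κ} (hab : a ≠ b)
  {s : κ → (Fin 2 → K)} {θ : κ → ℚ}

/-- The indices other than `a`, `b`. -/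
abbrev Rest (a b : κ) := {i : κ // i ≠ a ∧ i ≠ b}

/-- The weight at the sinks. -/
abbrev pη (a b : κ) (θ : κ → ℚ) : Fin 2 → ℚ :=
  ![(2 - θ a - θ b)⁻¹ * (θ a - 1), (2 - θ a - θ b)⁻¹ * (θ b - 1)]

/-- The weight at the sources. -/
abbrev pθ (a b : κ) (θ : κ → ℚ) : Rest a b → ℚ := fun i => (2 - θ a - θ b)⁻¹ * θ i.1

omit [Fintype κ] in
lemma pwt_eq (U : Fin 2 → Submodule K K) (J : Finset (Rest a b)) (hθ' : θ a + θ b < 2) :
    (2 - θ a - θ b) * PWt K (pη a b θ) (pθ a b θ) U J =
      (θ a - 1) * (Module.finrank K (U 0) : ℚ) + (θ b - 1) * (Module.finrank K (U 1) : ℚ) + ∑ i ∈ J, θ i.1 := by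
  have h : (2 - θ a - θ b) ≠ 0 := by linarith
  simp only [PWt, pη, pθ, Fin.sum_univ_two, Matrix.cons_val_zero, Matrix.cons_val_one, ← Finset.mul_sum]
  field_simp

lemma dichot (W : Submodule K K) : W = ⊥ ∨ W = ⊤ := Ideal.eq_bot_or_top W

lemma topne : (⊤ : Submodule K K) ≠ ⊥ := fun h => one_ne_zero (α := K) ((Submodule.mem_bot K).mp (h ▸ trivial))

lemma finrank_top' : (Module.finrank K (⊤ : Submodule K K) : ℚ) = 1 := by
  rw [finrank_top, Module.finrank_self, Nat.cast_one]

lemma finrank_bot' {V : Type*} [AddCommGroup V] [Module K V] : (Module.finrank K (⊥ : Submodule K V) : ℚ) = 0 := by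
  rw [finrank_bot, Nat.cast_zero]

include hab in
lemma sum_rest (f : κ → ℚ) : ∑ i, f i = f a + f b + ∑ i : Rest a b, f i.1 := by
  rw [← Finset.sum_erase_add _ _ (Finset.mem_univ a), ← Finset.sum_erase_add _ _ (Finset.mem_erase.mpr ⟨hab.symm, Finset.mem_univ b⟩),
    Finset.sum_subtype (p := fun i => i ≠ a ∧ i ≠ b) ((Finset.univ.erase a).erase b) (fun i => by simp [and_comm]) f]
  ring

omit [Fintype κ] in
include hab in
lemma indep_of_semistable [Fintype κ] (h0 : ∀ i, 0 ≤ θ i) (h1 : ∀ i, θ i ≤ 1) (hθ : 1 < θ a + θ b) (h : QSemistable (-1) θ s) :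
    LinearIndependent K ![s a, s b] := by
  classical
  have hne : ∀ i, 0 < θ i → s i ≠ 0 := fun i hi hsi => by
    have := h.2 ⊥ {i} (fun j hj => by rw [Finset.mem_singleton.mp hj, hsi]; exact zero_mem _)
    simp only [QWt, finrank_bot', Finset.sum_singleton, mul_zero, zero_add] at this
    linarith
  have hsa : s a ≠ 0 := hne a (by linarith [h1 b])
  rw [LinearIndependent.pair_iff' hsa]
  intro c hc
  have := h.2 (Submodule.span K {s a}) {a, b} (fun j hj => by
    rcases Finset.mem_insert.mp hj with rfl | hj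
    · exact Submodule.mem_span_singleton_self _
    · rw [Finset.mem_singleton.mp hj]; exact Submodule.mem_span_singleton.mpr ⟨c, hc⟩)
  simp only [QWt, Finset.sum_pair hab, finrank_span_singleton hsa, Nat.cast_one] at this
  linarith

include hab in
/-- From a subrepresentation of `P` to one of `Q`. -/
lemma toQ (hli : LinearIndependent K ![s a, s b]) (hθ' : θ a + θ b < 2) {t : Rest a b → (Fin 2 → K)}
    (ht : ∀ i, s i.1 = t i 0 • s a + t i 1 • s b) (U : Fin 2 → Submodule K K) (J : Finset (Rest a b))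
    (hU : PSubrep t U J) : ∃ (L : Submodule K (Fin 2 → K)) (I : Finset κ), QSubrep s L I ∧
      QWt K (-1) θ L I = (2 - θ a - θ b) * PWt K (pη a b θ) (pθ a b θ) U J ∧
      (L = ⊥ → I = ∅ → U = ⊥ ∧ J = ∅) ∧ (L = ⊤ → I = Finset.univ → U = ⊤ ∧ J = Finset.univ) := by
  classical
  have hsa : s a ≠ 0 := by simpa using hli.ne_zero 0
  have hsb : s b ≠ 0 := by simpa using hli.ne_zero 1
  have hJa : a ∉ J.map (Function.Embedding.subtype _) := by
    simp only [Finset.mem_map, Function.Embedding.coe_subtype]; rintro ⟨i, -, hi⟩; exact i.2.1 hi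
  have hJb : b ∉ J.map (Function.Embedding.subtype _) := by
    simp only [Finset.mem_map, Function.Embedding.coe_subtype]; rintro ⟨i, -, hi⟩; exact i.2.2 hi
  have hbot : ∀ i ∈ J, ∀ j, U j = ⊥ → t i j = 0 := fun i hi j hj => by
    have := hU i hi j; rwa [hj, Submodule.mem_bot] at this
  rw [pwt_eq U J hθ']
  rcases dichot (U 0) with h0 | h0 <;> rcases dichot (U 1) with h1 | h1
  · refine ⟨⊥, J.map (Function.Embedding.subtype _), ?_, ?_, ?_, ?_⟩
    · intro i hi
      obtain ⟨i, hiJ, rfl⟩ := Finset.mem_map.mp hi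
      simp [ht, hbot i hiJ 0 h0, hbot i hiJ 1 h1]
    · rw [h0, h1]; simp only [QWt, finrank_bot', Finset.sum_map, Function.Embedding.coe_subtype]; ring
    · intro _ hI
      refine ⟨funext (Fin.forall_fin_two.mpr ⟨h0, h1⟩), Finset.map_eq_empty.mp hI⟩
    · intro hL; exact absurd ((Submodule.eq_bot_iff _).mp hL.symm (s a) trivial) hsa
  · refine ⟨Submodule.span K {s b}, insert b (J.map (Function.Embedding.subtype _)), ?_, ?_, ?_, ?_⟩
    · intro i hi
      rcases Finset.mem_insert.mp hi with rfl | hi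
      · exact Submodule.mem_span_singleton_self _
      · obtain ⟨i, hiJ, rfl⟩ := Finset.mem_map.mp hi
        exact Submodule.mem_span_singleton.mpr ⟨t i 1, by simp [ht, hbot i hiJ 0 h0]⟩
    · rw [h0, h1]; simp only [QWt, finrank_bot', finrank_top', finrank_span_singleton hsb, Finset.sum_insert hJb, Finset.sum_map,
        Function.Embedding.coe_subtype, Nat.cast_one]; ring
    · intro _ hI; exact absurd hI (Finset.insert_ne_empty _ _)
    · intro _ hI
      exact absurd (hI ▸ Finset.mem_univ a : a ∈ insert b (J.map (Function.Embedding.subtype _))) (by simp only [Finset.mem_insert, not_or]; exact ⟨hab, hJa⟩)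
  · refine ⟨Submodule.span K {s a}, insert a (J.map (Function.Embedding.subtype _)), ?_, ?_, ?_, ?_⟩
    · intro i hi
      rcases Finset.mem_insert.mp hi with rfl | hi
      · exact Submodule.mem_span_singleton_self _
      · obtain ⟨i, hiJ, rfl⟩ := Finset.mem_map.mp hi
        exact Submodule.mem_span_singleton.mpr ⟨t i 0, by simp [ht, hbot i hiJ 1 h1]⟩
    · rw [h0, h1]; simp only [QWt, finrank_bot', finrank_top', finrank_span_singleton hsa, Finset.sum_insert hJa, Finset.sum_map,
        Function.Embedding.coe_subtype, Nat.cast_one]; ring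
    · intro _ hI; exact absurd hI (Finset.insert_ne_empty _ _)
    · intro _ hI
      exact absurd (hI ▸ Finset.mem_univ b : b ∈ insert a (J.map (Function.Embedding.subtype _))) (by simp only [Finset.mem_insert, not_or]; exact ⟨hab.symm, hJb⟩)
  · refine ⟨⊤, insert a (insert b (J.map (Function.Embedding.subtype _))), fun _ _ => trivial, ?_, ?_, ?_⟩
    · rw [h0, h1]; simp only [QWt, finrank_top', finrank_top, Module.finrank_self, Module.finrank_fin_fun,
        Finset.sum_insert (show a ∉ insert b (J.map (Function.Embedding.subtype _)) by simp only [Finset.mem_insert, not_or]; exact ⟨hab, hJa⟩),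
        Finset.sum_insert hJb, Finset.sum_map, Function.Embedding.coe_subtype]
      push_cast; ring
    · intro _ hI; exact absurd hI (Finset.insert_ne_empty _ _)
    · intro _ hI
      refine ⟨funext (Fin.forall_fin_two.mpr ⟨h0, h1⟩), Finset.eq_univ_of_forall fun i => ?_⟩
      have := hI ▸ Finset.mem_univ i.1
      simpa [i.2.1, i.2.2] using this

include hab in
/-- From a subrepresentation of `Q` to one of `P`. -/
lemma toP (hli : LinearIndependent K ![s a, s b]) (h0 : ∀ i, 0 ≤ θ i) (h2 : ∑ i, θ i = 2) (hθ : 1 < θ a + θ b) (hθ' : θ a + θ b < 2)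
    {t : Rest a b → (Fin 2 → K)} (ht : ∀ i, s i.1 = t i 0 • s a + t i 1 • s b)
    (hP : ∀ (U : Fin 2 → Submodule K K) (J : Finset (Rest a b)), PSubrep t U J → PWt K (pη a b θ) (pθ a b θ) U J ≤ 0)
    (L : Submodule K (Fin 2 → K)) (I : Finset κ) (hL : QSubrep s L I) :
    (L = ⊤ ∧ QWt K (-1) θ L I ≤ 0) ∨ QWt K (-1) θ L I < 0 ∨
      ∃ (U : Fin 2 → Submodule K K) (J : Finset (Rest a b)), PSubrep t U J ∧
        QWt K (-1) θ L I ≤ (2 - θ a - θ b) * PWt K (pη a b θ) (pθ a b θ) U J ∧
        U ≠ ⊤ ∧ (U = ⊥ → J = ∅ → L = ⊥ ∧ I = ∅) := by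
  classical
  have hpair : ∀ x y : K, x • s a + y • s b = 0 → x = 0 ∧ y = 0 := LinearIndependent.pair_iff.mp hli
  by_cases hLtop : L = ⊤
  · left
    refine ⟨hLtop, ?_⟩
    have : ∑ i ∈ I, θ i ≤ 2 := h2 ▸ Finset.sum_le_univ_sum_of_nonneg h0
    rw [QWt, hLtop, finrank_top, Module.finrank_fin_fun]
    push_cast
    linarith
  right
  set J : Finset (Rest a b) := Finset.univ.filter (fun i => i.1 ∈ I) with hJ
  have hsum : ∀ (hab' : a ∉ I ∨ a ∈ I), ∑ i ∈ I, θ i = (if a ∈ I then θ a else 0) + (if b ∈ I then θ b else 0) + ∑ i ∈ J, θ i.1 := by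
    intro _
    have h := sum_rest hab (fun i => if i ∈ I then θ i else 0)
    rw [Finset.sum_ite_mem, Finset.univ_inter] at h
    rw [h, hJ, Finset.sum_filter]
  by_cases hLbot : L = ⊥
  · right
    have ha : a ∉ I := fun h => by
      have := hL a h; rw [hLbot, Submodule.mem_bot] at this
      exact (hli.ne_zero 0) (by simpa using this)
    have hb : b ∉ I := fun h => by
      have := hL b h; rw [hLbot, Submodule.mem_bot] at this
      exact (hli.ne_zero 1) (by simpa using this)
    refine ⟨⊥, J, fun i hi => ?_, ?_, ?_, fun _ hJe => ⟨hLbot, ?_⟩⟩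
    · have := hL i.1 (Finset.mem_filter.mp hi).2
      rw [hLbot, Submodule.mem_bot, ht] at this
      obtain ⟨e0, e1⟩ := hpair _ _ this
      exact Fin.forall_fin_two.mpr ⟨(Submodule.mem_bot K).mpr e0, (Submodule.mem_bot K).mpr e1⟩
    · rw [pwt_eq _ J hθ', QWt, hLbot, hsum (em _).symm, if_neg ha, if_neg hb]
      simp [finrank_bot']
    · exact fun h => bot_ne_top (congrFun h 0)
    · refine Finset.eq_empty_of_forall_notMem fun i hi => ?_
      have : (⟨i, fun h => ha (h ▸ hi), fun h => hb (h ▸ hi)⟩ : Rest a b) ∈ J := by simp [hJ, hi]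
      simp [hJe] at this
  have hr : Module.finrank K L = 1 := by
    have h1 : Module.finrank K L ≤ 2 := le_trans (Submodule.finrank_le L) (Module.finrank_fin_fun K).le
    have h2' : Module.finrank K L ≠ 0 := fun h => hLbot (Submodule.finrank_eq_zero.mp h)
    have h3 : Module.finrank K L ≠ 2 := fun h => hLtop (Submodule.eq_top_of_finrank_eq (by rw [h, Module.finrank_fin_fun]))
    omega
  have hspan : ¬ (s a ∈ L ∧ s b ∈ L) := fun ⟨ha, hb⟩ => hLtop <| top_unique <| by
    rw [← hli.span_eq_top_of_card_eq_finrank (by simp)]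
    exact Submodule.span_le.mpr (Set.range_subset_iff.mpr fun i => by fin_cases i <;> assumption)
  have hline : ∀ v, v ≠ 0 → v ∈ L → ∀ x ∈ L, ∃ c : K, c • v = x := fun v hv hvL x hx => by
    have : Submodule.span K {v} = L := Submodule.eq_of_le_of_finrank_eq
      ((Submodule.span_singleton_le_iff_mem _ _).mpr hvL) (by rw [finrank_span_singleton hv, hr])
    exact Submodule.mem_span_singleton.mp (this.symm ▸ hx)
  by_cases ha : s a ∈ L
  · right
    have hb : b ∉ I := fun h => hspan ⟨ha, hL b h⟩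
    refine ⟨![⊤, ⊥], J, fun i hi j => ?_, ?_, ?_, ?_⟩
    · obtain ⟨c, hc⟩ := hline (s a) (by simpa using hli.ne_zero 0) ha _ (hL i.1 (Finset.mem_filter.mp hi).2)
      rw [ht] at hc
      obtain ⟨-, e⟩ := hpair (t i 0 - c) (t i 1) (by rw [sub_smul, hc]; abel)
      exact (Fin.forall_fin_two.mpr ⟨trivial, (Submodule.mem_bot K).mpr e⟩ : ∀ j : Fin 2, t i j ∈ (![⊤, ⊥] : Fin 2 → Submodule K K) j) j
    · rw [pwt_eq _ J hθ', QWt, hr, hsum (em _).symm, if_neg hb]
      rw [show (![⊤, ⊥] : Fin 2 → Submodule K K) 0 = ⊤ from rfl, show (![⊤, ⊥] : Fin 2 → Submodule K K) 1 = ⊥ from rfl, finrank_top', finrank_bot']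
      have := h0 a
      split_ifs <;> push_cast <;> linarith
    · exact fun h => bot_ne_top (congrFun h 1)
    · exact fun h => absurd (congrFun h 0) topne
  by_cases hb : s b ∈ L
  · right
    have ha' : a ∉ I := fun h => hspan ⟨hL a h, hb⟩
    refine ⟨![⊥, ⊤], J, fun i hi j => ?_, ?_, ?_, ?_⟩
    · obtain ⟨c, hc⟩ := hline (s b) (by simpa using hli.ne_zero 1) hb _ (hL i.1 (Finset.mem_filter.mp hi).2)
      rw [ht] at hc
      obtain ⟨e, -⟩ := hpair (t i 0) (t i 1 - c) (by rw [sub_smul, hc]; abel)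
      exact (Fin.forall_fin_two.mpr ⟨(Submodule.mem_bot K).mpr e, trivial⟩ : ∀ j : Fin 2, t i j ∈ (![⊥, ⊤] : Fin 2 → Submodule K K) j) j
    · rw [pwt_eq _ J hθ', QWt, hr, hsum (em _).symm, if_neg ha']
      rw [show (![⊥, ⊤] : Fin 2 → Submodule K K) 0 = ⊥ from rfl, show (![⊥, ⊤] : Fin 2 → Submodule K K) 1 = ⊤ from rfl, finrank_top', finrank_bot']
      have := h0 b
      split_ifs <;> push_cast <;> linarith
    · exact fun h => bot_ne_top (congrFun h 0)
    · exact fun h => absurd (congrFun h 1) topne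
  left
  have ha' : a ∉ I := fun h => ha (hL a h)
  have hb' : b ∉ I := fun h => hb (hL b h)
  rw [QWt, hr, hsum (em _).symm, if_neg ha', if_neg hb']
  have hc : (0 : ℚ) < 2 - θ a - θ b := by linarith
  have hP' : ∀ U, PSubrep t U J → (θ a - 1) * (Module.finrank K (U 0) : ℚ) + (θ b - 1) * (Module.finrank K (U 1) : ℚ) + ∑ i ∈ J, θ i.1 ≤ 0 := by
    intro U hU
    have := mul_nonpos_of_nonneg_of_nonpos hc.le (hP U J hU)
    rwa [pwt_eq U J hθ'] at this
  have := hP' ⊤ (fun _ _ _ => trivial)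
  simp only [Pi.top_apply, finrank_top'] at this
  push_cast; linarith

end Groth.Agent.PtQuiv28
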